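import Groth.Agent.S1691
import Groth.Agent.RegLoc.Serre
import Groth.Agent.RegLoc.UFD

/-!
# Restriction across codimension two subsets
-/

universe u

open CategoryTheory AlgebraicGeometry TopologicalSpace

namespace Groth.Agent.NormSh38

variable {X : Scheme.{u}} [IsLocallyNoetherian X]

/-- A point in the closure of a locally closed set is a specialization of a point of the set. -/
theorem exists_specializes_of_mem_closure (U V : X.Opens) {y : X}
    (hy : y ∈ closure ((U : Set X) \ (V : Set X))) :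
    ∃ z : X, z ∈ U ∧ z ∉ V ∧ z ⤳ y := by
  obtain ⟨W, hW, hyW⟩ : ∃ W : X.Opens, IsAffineOpen W ∧ y ∈ W := by
    obtain ⟨_, ⟨W, hW, rfl⟩, hyW, -⟩ :=
      X.isBasis_affineOpens.exists_subset_of_mem_open (Set.mem_univ y) isOpen_univ
    exact ⟨W, hW, hyW⟩
  haveI : IsNoetherianRing Γ(X, W) := IsLocallyNoetherian.component_noetherian ⟨W, hW⟩
  haveI : CompactSpace (W : Scheme) := isCompact_iff_compactSpace.mp hW.isCompact
  haveI : IsNoetherian (W : Scheme) := { }
  let Z' : Set (W : Scheme) := W.ι ⁻¹' ((U : Set X) \ (V : Set X))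
  have hy' : (⟨y, hyW⟩ : (W : Scheme)) ∈ closure Z' := by
    rw [← W.ι.isOpenEmbedding.isOpenMap.preimage_closure_eq_closure_preimage W.ι.continuous]
    exact hy
  obtain ⟨S, hSf, hSc, hSi, hS⟩ :=
    NoetherianSpace.exists_finite_set_isClosed_irreducible (isClosed_closure (s := Z'))
  let S' := {C ∈ S | (C ∩ Z').Nonempty}
  have hsub : closure Z' ⊆ ⋃₀ S' := by
    refine closure_minimal (fun z hz => ?_)
      (by
        rw [Set.sUnion_eq_biUnion]
        exact (hSf.subset (Set.sep_subset _ _)).isClosed_biUnion fun C hC => hSc C hC.1)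
    obtain ⟨C, hC, hzC⟩ := hS ▸ subset_closure hz
    exact ⟨C, ⟨hC, z, hzC, hz⟩, hzC⟩
  obtain ⟨C, ⟨hC, w, hwC, hwZ⟩, hyC⟩ := hsub hy'
  have hg := (hSi C hC).isGenericPoint_genericPoint_closure
  rw [(hSc C hC).closure_eq] at hg
  set g := (hSi C hC).genericPoint
  have hgw : g ⤳ w := hg.specializes hwC
  have hgU : W.ι g ∈ U := (hgw.map W.ι.continuous).mem_open U.2 hwZ.1
  have hgV : W.ι g ∉ V := by
    have hgcl : g ∈ closure Z' := hS.symm ▸ ⟨C, hC, hg.mem⟩
    have hcl : closure Z' ⊆ W.ι ⁻¹' (V : Set X)ᶜ :=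
      closure_minimal (fun z hz => hz.2) (V.2.isClosed_compl.preimage W.ι.continuous)
    exact hcl hgcl
  exact ⟨W.ι g, hgU, hgV, (hg.specializes hyC).map W.ι.continuous⟩

theorem two_le_dim_of_specializes {z y : X} (h : z ⤳ y)
    (hz : (2 : WithBot ℕ∞) ≤ ringKrullDim (X.presheaf.stalk z)) :
    (2 : WithBot ℕ∞) ≤ ringKrullDim (X.presheaf.stalk y) := by
  refine hz.trans ?_
  rw [ringKrullDim_stalk_eq_coheight, ringKrullDim_stalk_eq_coheight]
  exact WithBot.coe_le_coe.mpr (Order.coheight_anti (show y ≤ z from h))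

/-- Restriction to an open with complement of codimension two, given depth two there. -/
theorem bijective_restrict (F : X.Modules) (hF : Coh.IsCoh F)
    (hd : ∀ x : X, (2 : WithBot ℕ∞) ≤ ringKrullDim (X.presheaf.stalk x) →
      (2 : ℕ∞) ≤ LocCoh.depth (X.presheaf.stalk x) (F.presheaf.stalk x))
    (U V : X.Opens) (hVU : V ≤ U)
    (hbig : ∀ x : X, x ∈ U → x ∉ V → (2 : WithBot ℕ∞) ≤ ringKrullDim (X.presheaf.stalk x)) :
    Function.Bijective (F.presheaf.map (homOfLE hVU).op) := by
  let U' : X.Opens := ⟨(closure ((U : Set X) \ (V : Set X)))ᶜ, isClosed_closure.isOpen_compl⟩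
  have h := Groth.Agent.S1575.result X F hF U' (fun x hx => by
    obtain ⟨z, hzU, hzV, hzx⟩ := exists_specializes_of_mem_closure U V (not_not.mp hx)
    exact hd x (two_le_dim_of_specializes hzx (hbig z hzU hzV))) U
  have hinf : U ⊓ U' = V := by
    refine le_antisymm (fun x hx => by_contra fun hxV => hx.2 (subset_closure ⟨hx.1, hxV⟩))
      (fun x hx => ⟨hVU hx, fun hc => ?_⟩)
    have hcl : closure ((U : Set X) \ (V : Set X)) ⊆ (V : Set X)ᶜ :=
      closure_minimal (fun z hz => hz.2) V.2.isClosed_compl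
    exact hcl hc hx
  have key : ∀ (O : X.Opens) (hO : O ≤ U), O = U ⊓ U' →
      Function.Bijective (F.presheaf.map (homOfLE hO).op) := by rintro O hO rfl; exact h
  exact key V hVU hinf.symm

/-- On a regular scheme the structure depth is at least two in dimension at least two. -/
theorem two_le_depth_of_regular (x : X) [IsRegularLocalRing (X.presheaf.stalk x)]
    (hx : (2 : WithBot ℕ∞) ≤ ringKrullDim (X.presheaf.stalk x)) :
    (2 : ℕ∞) ≤ LocCoh.depth (X.presheaf.stalk x) (X.presheaf.stalk x) := by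
  haveI := Groth.Agent.RegLoc.isDomain (X.presheaf.stalk x)
  haveI := Groth.Agent.RegLoc.UFD.uniqueFactorizationMonoid (X.presheaf.stalk x)
  have h := Groth.Agent.RegLoc.Serre.min_two_dim_le_depth (A := X.presheaf.stalk x)
  rw [min_eq_left hx] at h
  exact WithBot.coe_le_coe.mp h

end Groth.Agent.NormSh38
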